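import Mathlib

/-!
# Powers of a regular element with flat quotient
-/

set_option linter.style.haveILetI false

universe u

open scoped TensorProduct

namespace Groth.Agent.ExtCartier

/-- An extension of flat modules is flat. -/
theorem flat_middle {R M₁ M₂ M₃ : Type u} [CommRing R] [AddCommGroup M₁] [Module R M₁] [AddCommGroup M₂]
    [Module R M₂] [AddCommGroup M₃] [Module R M₃] [Module.Flat R M₁] [Module.Flat R M₃]
    {f : M₁ →ₗ[R] M₂} {g : M₂ →ₗ[R] M₃} (hf : Function.Injective f) (hfg : Function.Exact f g)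
    (hg : Function.Surjective g) : Module.Flat R M₂ := by
  rw [Module.Flat.iff_rTensor_injective]
  intro I _
  rw [injective_iff_map_eq_zero]
  intro x hx
  have hc : ∀ {N N' : Type u} [AddCommGroup N] [Module R N] [AddCommGroup N'] [Module R N'] (φ : N →ₗ[R] N')
      (y : I ⊗[R] N), I.subtype.rTensor N' (φ.lTensor I y) = φ.lTensor R (I.subtype.rTensor N y) := fun φ y => by
    rw [← LinearMap.comp_apply, ← LinearMap.comp_apply, LinearMap.rTensor_comp_lTensor, LinearMap.lTensor_comp_rTensor]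
  have h3 : g.lTensor I x = 0 :=
    Module.Flat.rTensor_preserves_injective_linearMap (M := M₃) I.subtype Subtype.val_injective
      (by rw [hc, hx, map_zero, map_zero])
  obtain ⟨y, rfl⟩ := (lTensor_exact I hfg hg x).1 h3
  rw [hc] at hx
  have : I.subtype.rTensor M₁ y = 0 :=
    Module.Flat.lTensor_preserves_injective_linearMap f hf (hx.trans (map_zero _).symm)
  rw [Module.Flat.rTensor_preserves_injective_linearMap (M := M₁) I.subtype Subtype.val_injective
    (this.trans (map_zero _).symm), map_zero]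

variable {A B : Type u} [CommRing A] [CommRing B] [Algebra A B] {t : B}

theorem flat_quot_pow (ht : t ∈ nonZeroDivisors B) [Module.Flat A (B ⧸ Ideal.span {t})] (n : ℕ) :
    Module.Flat A (B ⧸ Ideal.span {t ^ n}) := by
  induction n with
  | zero =>
    haveI : Subsingleton (B ⧸ Ideal.span {t ^ 0}) := Ideal.Quotient.subsingleton_iff.2 (by simp)
    exact Module.Flat.of_linearEquiv (M := PUnit.{u + 1}) (LinearEquiv.ofSubsingleton _ _)
  | succ n ih =>
    let f₀ : B →ₗ[A] B ⧸ Ideal.span {t ^ (n + 1)} :=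
      (Ideal.Quotient.mkₐ A (Ideal.span {t ^ (n + 1)})).toLinearMap ∘ₗ LinearMap.mulLeft A (t ^ n)
    have hf₀ : ∀ b, f₀ b = 0 ↔ b ∈ Ideal.span {t} := fun b => by
      show Ideal.Quotient.mk _ (t ^ n * b) = 0 ↔ _
      rw [Ideal.Quotient.eq_zero_iff_mem, Ideal.mem_span_singleton, Ideal.mem_span_singleton, pow_succ]
      refine ⟨fun ⟨c, hc⟩ => ⟨c, ?_⟩, fun ⟨c, hc⟩ => ⟨c, by rw [hc]; ring⟩⟩
      refine (mul_cancel_left_mem_nonZeroDivisors (pow_mem ht n)).1 ?_
      rw [hc]; ring
    let f : (B ⧸ Ideal.span {t}) →ₗ[A] B ⧸ Ideal.span {t ^ (n + 1)} :=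
      (Submodule.liftQ (R₂ := A) (M₂ := B ⧸ Ideal.span {t ^ (n + 1)}) ((Ideal.span {t}).restrictScalars A) f₀
        fun b hb => (hf₀ b).2 hb).comp (Submodule.Quotient.restrictScalarsEquiv A (Ideal.span {t})).symm.toLinearMap
    let g : (B ⧸ Ideal.span {t ^ (n + 1)}) →ₗ[A] B ⧸ Ideal.span {t ^ n} :=
      (Ideal.Quotient.factorₐ A (Ideal.span_singleton_le_span_singleton.2 ⟨t, pow_succ t n⟩)).toLinearMap
    refine flat_middle (f := f) (g := g) ((injective_iff_map_eq_zero f).2 fun x hx => ?_) (fun x => ?_) fun x => ?_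
    · obtain ⟨b, rfl⟩ := Ideal.Quotient.mk_surjective x
      exact Ideal.Quotient.eq_zero_iff_mem.2 ((hf₀ b).1 hx)
    · obtain ⟨b, rfl⟩ := Ideal.Quotient.mk_surjective x
      constructor
      · intro hb
        obtain ⟨c, hc⟩ := Ideal.mem_span_singleton.1 (Ideal.Quotient.eq_zero_iff_mem.1 hb)
        exact ⟨Ideal.Quotient.mk _ c, by rw [hc]; rfl⟩
      · rintro ⟨y, hy⟩
        obtain ⟨c, rfl⟩ := Ideal.Quotient.mk_surjective y
        rw [← hy]
        exact Ideal.Quotient.eq_zero_iff_mem.2 (Ideal.mem_span_singleton.2 (dvd_mul_right _ _))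
    · obtain ⟨b, rfl⟩ := Ideal.Quotient.mk_surjective x
      exact ⟨Ideal.Quotient.mk _ b, rfl⟩

theorem nonZeroDivisors_baseChange (ht : t ∈ nonZeroDivisors B) [Module.Flat A (B ⧸ Ideal.span {t})]
    {R B' : Type u} [CommRing R] [Algebra A R] [CommRing B'] [Algebra A B'] [Algebra R B'] [Algebra B B']
    [IsScalarTower A R B'] [IsScalarTower A B B'] [h : Algebra.IsPushout A R B B'] :
    algebraMap B B' t ∈ nonZeroDivisors B' := by
  let g : B →ₗ[A] B ⧸ Ideal.span {t} := (Ideal.Quotient.mkₐ A (Ideal.span {t})).toLinearMap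
  have hex : Function.Exact (LinearMap.mulLeft A t) g := fun b => by
    show Ideal.Quotient.mk _ b = 0 ↔ _
    rw [Ideal.Quotient.eq_zero_iff_mem, Ideal.mem_span_singleton]
    exact ⟨fun ⟨c, hc⟩ => ⟨c, hc.symm⟩, fun ⟨c, hc⟩ => ⟨c, hc.symm⟩⟩
  have hinj : Function.Injective (LinearMap.mulLeft A t) := (injective_iff_map_eq_zero _).2 fun b hb =>
    (mul_right_mem_nonZeroDivisors_eq_zero_iff ht).1 ((mul_comm b t).trans hb)
  have h1 := LinearMap.lTensor_injective_of_exact_of_flat g Ideal.Quotient.mk_surjective (LinearMap.mulLeft A t) hinj hex R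
  let e := Algebra.IsPushout.equiv A R B B'
  have he : ∀ z : R ⊗[A] B, e ((LinearMap.mulLeft A t).lTensor R z) = algebraMap B B' t * e z := fun z => by
    induction z using TensorProduct.induction_on with
    | zero => simp
    | tmul r b => rw [LinearMap.lTensor_tmul]; simp [e, Algebra.IsPushout.equiv_tmul]; ring
    | add x y hx hy => rw [map_add, map_add, hx, hy, map_add, mul_add]
  rw [mem_nonZeroDivisors_iff_right]
  intro x hx
  obtain ⟨z, rfl⟩ := e.surjective x
  have : (LinearMap.mulLeft A t).lTensor R z = 0 := e.injective (by rw [he, map_zero, mul_comm, hx])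
  rw [h1 (this.trans (map_zero _).symm), map_zero]

end Groth.Agent.ExtCartier
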