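import Groth.Prelude.Def_FGA
import Groth.Prelude.Def_Coh
import Groth.Agent.QCoh.Localize
import Mathlib.AlgebraicGeometry.IdealSheaf.Subscheme
import Mathlib.AlgebraicGeometry.Morphisms.Affine

/-!
# Charts of an effective Cartier divisor and functions on its complement
-/

set_option backward.isDefEq.respectTransparency false
set_option backward.isDefEq.respectTransparency.types false
set_option linter.style.haveILetI false

universe u

open CategoryTheory CategoryTheory.Limits AlgebraicGeometry TopologicalSpace Opposite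

namespace Groth.Agent.ExtCartier

variable {Z : Scheme.{u}} (I : Z.IdealSheafData)

/-- An affine open with a regular generator of the ideal. -/
structure IsChart (U : Z.Opens) (t : Γ(Z, U)) : Prop where
  affine : IsAffineOpen U
  nzd : t ∈ nonZeroDivisors Γ(Z, U)
  ideal_eq : I.ideal ⟨U, affine⟩ = Ideal.span {t}

/-- The complement of the divisor. -/
abbrev compl : Z.Opens := I.support.compl

variable {I}

theorem IsChart.mem_support_iff {U : Z.Opens} {t : Γ(Z, U)} (h : IsChart I U t) {x : Z} (hx : x ∈ U) :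
    x ∈ I.support ↔ x ∉ Z.basicOpen t := by
  have h1 := I.coe_support_inter ⟨U, h.affine⟩
  have h2 : x ∈ (I.support : Set Z) ∩ (U : Set Z) ↔
      x ∈ Z.zeroLocus (U := U) (↑(I.ideal ⟨U, h.affine⟩) : Set Γ(Z, U)) ∩ (U : Set Z) := by rw [h1]
  simp only [Set.mem_inter_iff, SetLike.mem_coe, hx, and_true] at h2
  rw [h2, h.ideal_eq, Scheme.zeroLocus_span, Scheme.mem_zeroLocus_iff]
  simp

theorem IsChart.preimage_eq {U : Z.Opens} {t : Γ(Z, U)} (h : IsChart I U t) :
    Z.basicOpen t = U ⊓ compl I := by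
  ext x
  refine ⟨fun hx => ⟨Z.basicOpen_le t hx, fun hs => (h.mem_support_iff (Z.basicOpen_le t hx)).1 hs hx⟩, ?_⟩
  rintro ⟨hxU, hxQ⟩
  by_contra hn
  exact hxQ ((h.mem_support_iff hxU).2 hn)

theorem IsChart.basicOpen {U : Z.Opens} {t : Γ(Z, U)} (h : IsChart I U t) (a : Γ(Z, U)) :
    IsChart I (Z.basicOpen a) (Z.presheaf.map (homOfLE (Z.basicOpen_le a)).op t) := by
  refine ⟨h.affine.basicOpen a, ?_, ?_⟩
  · letI := (Z.presheaf.map (homOfLE (Z.basicOpen_le a)).op).hom.toAlgebra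
    haveI := h.affine.isLocalization_basicOpen a
    exact IsLocalization.nonZeroDivisors_le_comap (Submonoid.powers a) Γ(Z, Z.basicOpen a) h.nzd
  · have h1 := I.map_ideal_basicOpen ⟨U, h.affine⟩ a
    rw [h.ideal_eq, Ideal.map_span, Set.image_singleton] at h1
    exact h1.symm

theorem exists_chart (hI : FGA.IsEffCartier I) (W : Z.Opens) (x : Z) (hx : x ∈ W) :
    ∃ (U : Z.Opens) (t : Γ(Z, U)), IsChart I U t ∧ x ∈ U ∧ U ≤ W := by
  obtain ⟨⟨U, hU⟩, hxU, t, ht, hI'⟩ := hI x
  have h : IsChart I U t := ⟨hU, ht, hI'⟩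
  obtain ⟨a, haW, hxa⟩ := hU.exists_basicOpen_le ⟨x, hx⟩ hxU
  exact ⟨_, _, h.basicOpen a, hxa, haW⟩

variable (hI : FGA.IsEffCartier I)

include hI in
theorem isAffineHom_compl : IsAffineHom (compl I).ι := by
  refine isAffineHom_of_forall_exists_isAffineOpen _ fun x => ?_
  obtain ⟨U, t, h, hx, -⟩ := exists_chart hI ⊤ x trivial
  refine ⟨U, hx, h.affine, ?_⟩
  rw [← (compl I).ι.isAffineOpen_iff_of_isOpenImmersion, Scheme.Hom.image_preimage_eq_opensRange_inf,
    Scheme.Opens.opensRange_ι, inf_comm, ← h.preimage_eq]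
  exact h.affine.basicOpen t

section Func

/-- Functions on the part of an open off the divisor. -/
noncomputable abbrev res (I : Z.IdealSheafData) (V : Z.Opens) : Γ(Z, V) ⟶ Γ((compl I : Scheme.{u}), (compl I).ι ⁻¹ᵁ V) :=
  (compl I).ι.app V

theorem res_eq (V : Z.Opens) :
    res I V = Z.presheaf.map (homOfLE (show (compl I).ι ''ᵁ ((compl I).ι ⁻¹ᵁ V) ≤ V from
      (Scheme.Hom.image_preimage_eq_opensRange_inf _ V).trans_le inf_le_right)).op :=
  Scheme.Opens.ι_app _ _

theorem res_map {V V' : Z.Opens} (e : V' ≤ V) (a : Γ(Z, V)) :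
    (compl I : Scheme.{u}).presheaf.map (homOfLE ((compl I).ι.preimage_mono e)).op (res I V a) =
      res I V' (Z.presheaf.map (homOfLE e).op a) :=
  (congr($((compl I).ι.naturality (homOfLE e).op) a)).symm

theorem IsChart.isUnit_res {U : Z.Opens} {t : Γ(Z, U)} (h : IsChart I U t) : IsUnit (res I U t) := by
  rw [res_eq]
  have e : (compl I).ι ''ᵁ ((compl I).ι ⁻¹ᵁ U) ≤ Z.basicOpen t := by
    rw [Scheme.Hom.image_preimage_eq_opensRange_inf, Scheme.Opens.opensRange_ι, h.preimage_eq, inf_comm]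
  have h1 : IsUnit (Z.presheaf.map (homOfLE (Z.basicOpen_le t)).op t) := RingedSpace.isUnit_res_basicOpen _ t
  have h2 := h1.map (Z.presheaf.map (homOfLE e).op).hom
  rwa [← CommRingCat.comp_apply, ← Functor.map_comp] at h2

theorem IsChart.res_eq_zero {U : Z.Opens} {t : Γ(Z, U)} (h : IsChart I U t) {a : Γ(Z, U)} (ha : res I U a = 0) :
    a = 0 := by
  have e : Z.basicOpen t ≤ (compl I).ι ''ᵁ ((compl I).ι ⁻¹ᵁ U) := by
    rw [Scheme.Hom.image_preimage_eq_opensRange_inf, Scheme.Opens.opensRange_ι, h.preimage_eq, inf_comm]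
  have h1 : Z.presheaf.map (homOfLE (Z.basicOpen_le t)).op a = 0 := by
    rw [res_eq] at ha
    have h2 := (congrArg (Z.presheaf.map (homOfLE e).op) ha).trans (map_zero _)
    exact (QCoh.ringMap_map (X := Z) (homOfLE e) _ a).symm.trans h2
  letI := (Z.presheaf.map (homOfLE (Z.basicOpen_le t)).op).hom.toAlgebra
  haveI := h.affine.isLocalization_basicOpen t
  obtain ⟨⟨c, n, rfl⟩, hc⟩ := (IsLocalization.map_eq_zero_iff (Submonoid.powers t) Γ(Z, Z.basicOpen t) a).1 h1
  exact (mul_left_mem_nonZeroDivisors_eq_zero_iff (pow_mem h.nzd n)).1 hc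

include hI in
theorem res_injective (V : Z.Opens) : Function.Injective (res I V) := by
  refine (injective_iff_map_eq_zero _).2 fun a ha => ?_
  refine TopCat.Sheaf.eq_of_locally_eq' Z.sheaf
    (fun c : {c : Σ U : Z.Opens, Γ(Z, U) // IsChart I c.1 c.2 ∧ c.1 ≤ V} => c.1.1) V (fun c => homOfLE c.2.2)
    (fun x hx => ?_) _ _ fun c => ?_
  · obtain ⟨U, t, h, hxU, hUV⟩ := exists_chart hI V x hx
    exact Opens.mem_iSup.2 ⟨⟨⟨U, t⟩, h, hUV⟩, hxU⟩
  · refine (c.2.1.res_eq_zero ?_).trans (map_zero _).symm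
    exact (res_map c.2.2 a).symm.trans ((congrArg _ ha).trans (map_zero _))

include hI in
/-- Being a function on the whole open is local. -/
theorem mem_range_res_of_locally (V : Z.Opens) (x : Γ((compl I : Scheme.{u}), (compl I).ι ⁻¹ᵁ V))
    (h : ∀ z ∈ V, ∃ (V' : Z.Opens) (e : V' ≤ V), z ∈ V' ∧
      (compl I : Scheme.{u}).presheaf.map (homOfLE ((compl I).ι.preimage_mono e)).op x ∈ Set.range (res I V')) :
    x ∈ Set.range (res I V) := by
  choose V' e hmem a ha using h
  let J := {z : Z // z ∈ V}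
  have hagree : TopCat.Presheaf.IsCompatible Z.presheaf (fun j : J => V' j.1 j.2) fun j => a j.1 j.2 := by
    intro j j'
    apply res_injective hI
    refine (res_map inf_le_left (a j.1 j.2)).symm.trans (Eq.trans ?_ (res_map inf_le_right (a j'.1 j'.2)))
    rw [ha, ha]
    simp only [QCoh.ringMap_map]
    rfl
  obtain ⟨b, hb, -⟩ := TopCat.Sheaf.existsUnique_gluing' Z.sheaf (fun j : J => V' j.1 j.2) V
    (fun j => homOfLE (e j.1 j.2)) (fun z hz => Opens.mem_iSup.2 ⟨⟨z, hz⟩, hmem z hz⟩) (fun j => a j.1 j.2) hagree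
  refine ⟨b, ?_⟩
  refine TopCat.Sheaf.eq_of_locally_eq' (compl I : Scheme.{u}).sheaf (fun j : J => (compl I).ι ⁻¹ᵁ V' j.1 j.2) _
    (fun j => homOfLE ((compl I).ι.preimage_mono (e j.1 j.2))) (fun z hz => Opens.mem_iSup.2 ⟨⟨_, hz⟩, hmem _ hz⟩)
    _ _ fun j => ?_
  refine (res_map (e j.1 j.2) b).trans ?_
  exact (congrArg (res I _) (hb j)).trans (ha j.1 j.2)

end Func

end Groth.Agent.ExtCartier
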