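import Groth.Agent.RhoShLib.Hartogs

/-!
# Morphisms agreeing on an open with injective restrictions
-/

set_option backward.isDefEq.respectTransparency false
set_option backward.isDefEq.respectTransparency.types false
set_option linter.style.haveILetI false

universe u

open CategoryTheory CategoryTheory.Limits AlgebraicGeometry TopologicalSpace Opposite

namespace Groth.Agent.ExtCartier

/-- Functions are determined on `Q`. -/
def InjRes {X : Scheme.{u}} (Q : X.Opens) : Prop :=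
  ∀ (V : X.Opens) (x : Γ(X, V)), X.presheaf.map (homOfLE (inf_le_left : V ⊓ Q ≤ V)).op x = 0 → x = 0

variable {X : Scheme.{u}} {Q : X.Opens}

theorem InjRes.map_injective (h : InjRes Q) {A B : X.Opens} (hle : B ≤ A) (hAB : A ⊓ Q ≤ B) :
    Function.Injective (X.presheaf.map (homOfLE hle).op) := by
  refine (injective_iff_map_eq_zero _).2 fun x hx => h A x ?_
  have h1 := (congrArg (X.presheaf.map (homOfLE hAB).op) hx).trans (map_zero _)
  exact (RhoShLib.res_res hle hAB x).symm.trans h1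

theorem InjRes.appTop_injective (h : InjRes Q) {A B : X.Opens} (hle : B ≤ A) (hAB : A ⊓ Q ≤ B) :
    Function.Injective (X.homOfLE hle).appTop := by
  have key : ∀ (A' B' : X.Opens) (h' : B' ≤ A'), A' = A → B' = B →
      Function.Injective (X.presheaf.map (homOfLE h').op) := by
    rintro A' B' h' rfl rfl; exact h.map_injective h' hAB
  rw [Scheme.homOfLE_appTop]
  exact key _ _ _ (Scheme.Opens.ι_image_top A) (Scheme.Opens.ι_image_top _)

theorem InjRes.ι_appLE_injective (h : InjRes Q) {A B : X.Opens} (hle : B ≤ A) (hAB : A ⊓ Q ≤ B)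
    (e : ⊤ ≤ B.ι ⁻¹ᵁ A) : Function.Injective (B.ι.appLE A ⊤ e) := by
  have key : ∀ (B' : X.Opens) (h' : B' ≤ A), B' = B → Function.Injective (X.presheaf.map (homOfLE h').op) := by
    rintro B' h' rfl; exact h.map_injective h' hAB
  have h1 : B.ι ''ᵁ (⊤ : (B : Scheme.{u}).Opens) ≤ A := (Scheme.Opens.ι_image_top B).trans_le hle
  rw [Scheme.Opens.ι_appLE]
  exact key _ h1 (Scheme.Opens.ι_image_top B)

/-- Functions are determined on the complement of local regular equations. -/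
theorem injRes_of_regular
    (h : ∀ x : X, ∃ (W : X.Opens) (t : Γ(X, W)), IsAffineOpen W ∧ x ∈ W ∧ t ∈ nonZeroDivisors Γ(X, W) ∧
      X.basicOpen t ≤ Q) : InjRes Q := by
  intro V s hs
  refine TopCat.Presheaf.section_ext X.sheaf _ _ _ fun x hx => ?_
  show X.presheaf.germ V x hx s = X.presheaf.germ V x hx 0
  obtain ⟨W, t, hW, hxW, ht, htQ⟩ := h x
  have hreg : IsSMulRegular Γ(X, W) t := (isRegular_iff_mem_nonZeroDivisors.2 ht).left.isSMulRegular
  have := RhoShLib.eq_zero_of_res_basicOpen hW t hreg (V ⊓ W) inf_le_right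
    (X.presheaf.map (homOfLE (inf_le_left : V ⊓ W ≤ V)).op s) (V ⊓ W ⊓ Q) inf_le_left
    (le_inf inf_le_left (inf_le_right.trans htQ)) (by
      rw [RhoShLib.res_res, ← RhoShLib.res_res (inf_le_left : V ⊓ Q ≤ V)
        (inf_le_inf_right Q (inf_le_left : V ⊓ W ≤ V)), hs, map_zero])
  rw [map_zero, ← X.presheaf.germ_res_apply (homOfLE (inf_le_left : V ⊓ W ≤ V)) x ⟨hx, hxW⟩ s, this, map_zero]

/-- Morphisms into an affine scheme are determined on `Q`. -/
theorem InjRes.hom_ext_affine (h : InjRes Q) {W : X.Opens} {Y : Scheme.{u}} [IsAffine Y]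
    {t t' : (W : Scheme.{u}) ⟶ Y}
    (he : X.homOfLE (inf_le_left : W ⊓ Q ≤ W) ≫ t = X.homOfLE (inf_le_left : W ⊓ Q ≤ W) ≫ t') : t = t' := by
  refine ext_of_isAffine ?_
  ext y
  refine h.appTop_injective (inf_le_left : W ⊓ Q ≤ W) le_rfl ?_
  have := congrArg (fun φ => Scheme.Hom.appTop φ y) he
  simpa using this

/-- Morphisms with affine base are determined on `Q`. -/
theorem InjRes.hom_ext (h : InjRes Q) {Y Z : Scheme.{u}} (p : Y ⟶ Z) [IsAffineHom p] (φ : X ⟶ Z) {W : X.Opens}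
    {t t' : (W : Scheme.{u}) ⟶ Y} (ht : t ≫ p = W.ι ≫ φ) (ht' : t' ≫ p = W.ι ≫ φ)
    (he : X.homOfLE (inf_le_left : W ⊓ Q ≤ W) ≫ t = X.homOfLE (inf_le_left : W ⊓ Q ≤ W) ≫ t') : t = t' := by
  let J := {c : X.Opens × Z.Opens // c.1 ≤ W ∧ c.1 ≤ φ ⁻¹ᵁ c.2 ∧ IsAffineOpen c.2}
  let 𝒱 : (W : Scheme.{u}).OpenCover := Scheme.Cover.mkOfCovers J
    (fun c => (c.1.1 : X.Opens).toScheme) (fun c => X.homOfLE c.2.1) (fun x => by
      obtain ⟨U, hU, hxU, -⟩ := exists_isAffineOpen_mem_and_subset (x := φ x.1) (U := ⊤) trivial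
      exact ⟨⟨(W ⊓ φ ⁻¹ᵁ U, U), inf_le_left, inf_le_right, hU⟩, ⟨x.1, x.2, hxU⟩,
        Subtype.ext (Scheme.homOfLE_apply _ _)⟩)
  refine 𝒱.hom_ext _ _ fun c => ?_
  obtain ⟨⟨W', U⟩, hW, hU', hU⟩ := c
  show X.homOfLE hW ≫ t = X.homOfLE hW ≫ t'
  haveI : IsAffine (p ⁻¹ᵁ U : Y.Opens) := hU.preimage p
  have hr : ∀ t : (W : Scheme.{u}) ⟶ Y, t ≫ p = W.ι ≫ φ → Set.range (X.homOfLE hW ≫ t) ⊆ Set.range (p ⁻¹ᵁ U).ι := by
    rintro t ht _ ⟨y, rfl⟩
    rw [Scheme.Opens.range_ι]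
    show p _ ∈ U
    rw [← Scheme.Hom.comp_apply, Category.assoc, ht, ← Category.assoc, Scheme.homOfLE_ι]
    exact hU' y.2
  have e : IsOpenImmersion.lift (p ⁻¹ᵁ U).ι _ (hr t ht) = IsOpenImmersion.lift (p ⁻¹ᵁ U).ι _ (hr t' ht') := by
    refine h.hom_ext_affine ?_
    rw [← cancel_mono (p ⁻¹ᵁ U).ι, Category.assoc, Category.assoc, IsOpenImmersion.lift_fac,
      IsOpenImmersion.lift_fac]
    have := congrArg (X.homOfLE (inf_le_inf_right Q hW) ≫ ·) he
    simpa only [Scheme.homOfLE_homOfLE_assoc] using this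
  simpa using congrArg (· ≫ (p ⁻¹ᵁ U).ι) e

/-- A morphism to an affine scheme extends when the functions do. -/
theorem exists_extend_of_range {A B Y : Scheme.{u}} [IsAffine Y] (j : A ⟶ B) (hj : Function.Injective j.appTop)
    (f : A ⟶ Y) (hr : ∀ y, f.appTop y ∈ Set.range j.appTop) : ∃ g : B ⟶ Y, j ≫ g = f := by
  choose c hc using hr
  let c' : Γ(Y, ⊤) ⟶ Γ(B, ⊤) := CommRingCat.ofHom
    { toFun := c
      map_one' := hj (by rw [hc, map_one, map_one])
      map_mul' := fun a b => hj (by rw [hc, map_mul, map_mul, hc, hc])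
      map_zero' := hj (by rw [hc, map_zero, map_zero])
      map_add' := fun a b => hj (by rw [hc, map_add, map_add, hc, hc]) }
  have hc' : c' ≫ j.appTop = f.appTop := by ext y; exact hc y
  refine ⟨B.toSpecΓ ≫ Spec.map c' ≫ Y.isoSpec.inv, ?_⟩
  rw [Scheme.toSpecΓ_naturality_assoc, ← Spec.map_comp_assoc, hc', ← Scheme.toSpecΓ_naturality_assoc]
  show f ≫ Y.isoSpec.hom ≫ Y.isoSpec.inv = f
  rw [Iso.hom_inv_id, Category.comp_id]

end Groth.Agent.ExtCartier
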