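import Groth.Agent.ExtCartier.Piece
import Groth.Agent.QCoh.Pullback
import Groth.Agent.QCoh.SubCompare

/-!
# Extensions of a section exist iff all polar parts vanish
-/

set_option backward.isDefEq.respectTransparency false
set_option backward.isDefEq.respectTransparency.types false
set_option linter.style.haveILetI false
set_option maxHeartbeats 1000000

universe u

open CategoryTheory CategoryTheory.Limits AlgebraicGeometry TopologicalSpace Opposite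

namespace Groth.Agent.ExtCartier

variable {Z X' Y : Scheme.{u}} {I : Z.IdealSheafData} {φ : X' ⟶ Z} (hI : FGA.IsEffCartier I) (p : Y ⟶ Z)
  [IsAffineHom p] {s : (compl I : Scheme.{u}) ⟶ Y} (hs : s ≫ p = (compl I).ι)
  (hp : ∀ x : X', ∃ (U : Z.Opens) (t : Γ(Z, U)) (W : X'.Opens), Piece φ I U t W ∧ x ∈ W)

include hp in
/-- An extension kills the polar parts. -/
theorem pullback_map_σ_eq_zero (f : X' ⟶ Y) (hf : f ≫ p = φ)
    (hf' : (φ ⁻¹ᵁ compl I).ι ≫ f = (φ ∣_ compl I) ≫ s) (n : ℕ) :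
    (Scheme.Modules.pullback φ).map (σ hI p hs n) = 0 := by
  have hinj := injRes_preimage_compl hp
  choose U t W P hx using hp
  refine QCoh.hom_eq_zero_of_cover (QCoh.isQCoh_pullback φ (isQCoh_G hI p hs n))
    (QCoh.isQCoh_pullback φ (isQCoh_polar hI n)) _ W (fun x => (P x).affine) (fun x => ⟨x, hx x⟩) fun x => ?_
  refine VanLoc.app_eq_zero_of_gens φ _ (isQCoh_G hI p hs n) (P x).affine (P x).chart.affine (P x).le fun g => ?_
  obtain ⟨z, hσ, hz⟩ := exists_σ_app hI p hs n g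
  obtain ⟨a, -, ha⟩ := exists_smul_invPow hI n (P x).chart ((poles hI n).ι_app_mem _ z)
  rw [hσ, pullSec_polarπ_eq_zero_iff hI n (P x) z a ha]
  set y := (G.ι hI p hs n).app (U x) g
  have hle : W x ≤ f ⁻¹ᵁ (p ⁻¹ᵁ U x) := by
    rw [← Scheme.Hom.comp_preimage, hf]; exact (P x).le
  refine ⟨f.appLE (p ⁻¹ᵁ U x) (W x) hle (pf p y), ?_⟩
  refine hinj.ι_appLE_injective (inf_le_left : W x ⊓ φ ⁻¹ᵁ compl I ≤ W x) le_rfl (top_le_ι_preimage _) ?_
  have hk : toCompl φ I (W x) ≫ s = (W x ⊓ φ ⁻¹ᵁ compl I).ι ≫ f := by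
    rw [toCompl, Category.assoc, ← hf', Scheme.homOfLE_ι_assoc]
  have e' : ⊤ ≤ (toCompl φ I (W x) ≫ s) ⁻¹ᵁ (p ⁻¹ᵁ U x) := by
    rw [hk, Scheme.Hom.comp_preimage]; exact fun z _ => hle z.2.1
  have h1 := toCompl_comp hs (P x).le e' (pf p y)
  have h2 := congrArg ((toCompl φ I (W x)).appLE ((compl I).ι ⁻¹ᵁ U x) ⊤ (top_le_toCompl_preimage (P x).le)) ha
  rw [hz, map_mul, map_pow, toCompl_res (P x).le, toCompl_res (P x).le, h1] at h2
  refine h2.symm.trans ?_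
  show _ = rho φ I (W x) (_ * _)
  rw [map_mul, map_pow]
  congr 1
  rw [← CommRingCat.comp_apply, Scheme.Hom.appLE_comp_appLE]
  exact congr($(appLE_congr_hom hk _ _ _) (pf p y))

/-- A morphism over a part of `X'` extending the given section. -/
def IsExtn (W : X'.Opens) (f : (W : Scheme.{u}) ⟶ Y) : Prop :=
  f ≫ p = W.ι ≫ φ ∧ X'.homOfLE (inf_le_left : W ⊓ φ ⁻¹ᵁ compl I ≤ W) ≫ f = toCompl φ I W ≫ s

variable {p}

omit [IsAffineHom p] in
theorem IsExtn.restrict {W W' : X'.Opens} {f : (W : Scheme.{u}) ⟶ Y} (h : IsExtn p (s := s) (φ := φ) W f) (e : W' ≤ W) :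
    IsExtn p (s := s) (φ := φ) W' (X'.homOfLE e ≫ f) := by
  refine ⟨by rw [Category.assoc, h.1, Scheme.homOfLE_ι_assoc], ?_⟩
  have := congrArg (X'.homOfLE (inf_le_inf_right (φ ⁻¹ᵁ compl I) e) ≫ ·) h.2
  simp only [toCompl, Category.assoc, Scheme.homOfLE_homOfLE_assoc] at this ⊢
  exact this

theorem ι_appLE_surjective {A : Scheme.{u}} (V : A.Opens) (e : ⊤ ≤ V.ι ⁻¹ᵁ V) :
    Function.Surjective (V.ι.appLE V ⊤ e) := by
  have key : ∀ (V' : A.Opens) (h : V' ≤ V), V' = V → Function.Surjective (A.presheaf.map (homOfLE h).op) := by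
    rintro V' h rfl y
    exact ⟨y, by rw [show (homOfLE h) = 𝟙 _ from rfl, op_id, A.presheaf.map_id]; rfl⟩
  have h1 : V.ι ''ᵁ (⊤ : (V : Scheme.{u}).Opens) ≤ V := (Scheme.Opens.ι_image_top V).le
  rw [Scheme.Opens.ι_appLE]
  exact key _ h1 (Scheme.Opens.ι_image_top V)

include hp in
/-- The section extends over a piece when the polar parts vanish. -/
theorem exists_isExtn (hv : ∀ n, (Scheme.Modules.pullback φ).map (σ hI p hs n) = 0)
    {U : Z.Opens} {t : Γ(Z, U)} {W : X'.Opens} (P : Piece φ I U t W) :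
    ∃ f, IsExtn p (s := s) (φ := φ) W f := by
  have hinj := injRes_preimage_compl hp
  set k := toCompl φ I W
  have hkp : (k ≫ s) ≫ p = (W ⊓ φ ⁻¹ᵁ compl I).ι ≫ φ := by rw [Category.assoc, hs, toCompl_ι]
  have e' : ⊤ ≤ (k ≫ s) ⁻¹ᵁ (p ⁻¹ᵁ U) := by
    rw [← Scheme.Hom.comp_preimage, hkp, Scheme.Hom.comp_preimage]
    exact fun x _ => P.le x.2.1
  have hrange : ∀ y : Γ(pushO p, U), ∃ c, (k ≫ s).appLE (p ⁻¹ᵁ U) ⊤ e' (pf p y) = rho φ I W c := by
    intro y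
    obtain ⟨n, a, ha⟩ := exists_pow_mul_eq P.chart (wf I ((τ p hs).app U y))
    obtain ⟨g, rfl⟩ := exists_G_app_eq hI p hs n (mem_poles_of_eq hI n P.chart ha)
    obtain ⟨z, hσ, hz⟩ := exists_σ_app hI p hs n g
    have h0 : QCoh.pullSec φ (Polar hI n) P.le ((polarπ hI n).app U z) = 0 := by
      rw [← hσ, ← ExistEasy.pullSec_natural φ (σ hI p hs n) P.le g, hv n]
      rfl
    obtain ⟨c, hc⟩ := (pullSec_polarπ_eq_zero_iff hI n P z a (by rw [hz]; exact ha)).1 h0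
    refine ⟨c, ?_⟩
    have h2 := congrArg (k.appLE ((compl I).ι ⁻¹ᵁ U) ⊤ (top_le_toCompl_preimage P.le)) ha
    rw [map_mul, map_pow, toCompl_comp hs P.le e' _] at h2
    have hu := (P.chart.isUnit_res.map (k.appLE ((compl I).ι ⁻¹ᵁ U) ⊤ (top_le_toCompl_preimage P.le)).hom).pow n
    refine hu.mul_left_cancel (h2.trans ?_)
    rw [toCompl_res P.le, hc, map_mul, map_pow, toCompl_res P.le]
  haveI : IsAffine (p ⁻¹ᵁ U : Y.Opens) := P.chart.affine.preimage p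
  haveI : IsAffine (U : Scheme.{u}) := P.chart.affine
  have hr : Set.range (k ≫ s) ⊆ Set.range (p ⁻¹ᵁ U).ι := by
    rintro _ ⟨x, rfl⟩
    rw [Scheme.Opens.range_ι]
    exact e' trivial
  set f₀ := IsOpenImmersion.lift (p ⁻¹ᵁ U).ι (k ≫ s) hr
  have hf₀ : f₀ ≫ (p ⁻¹ᵁ U).ι = k ≫ s := IsOpenImmersion.lift_fac _ _ _
  set j := X'.homOfLE (inf_le_left : W ⊓ φ ⁻¹ᵁ compl I ≤ W)
  obtain ⟨g₀, hg₀⟩ := exists_extend_of_range j (hinj.appTop_injective inf_le_left le_rfl) f₀ (by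
    intro y₀
    obtain ⟨y, rfl⟩ := ι_appLE_surjective (p ⁻¹ᵁ U) (fun x _ => x.2) y₀
    obtain ⟨c, hc⟩ := hrange y
    refine ⟨W.ι.appLE W ⊤ (fun x _ => x.2) c, ?_⟩
    rw [Scheme.Hom.appTop, Scheme.Hom.app_eq_appLE, Scheme.Hom.appTop, Scheme.Hom.app_eq_appLE,
      ← CommRingCat.comp_apply, ← CommRingCat.comp_apply, Scheme.Hom.appLE_comp_appLE, Scheme.Hom.appLE_comp_appLE]
    exact (congr($(appLE_congr_hom (Scheme.homOfLE_ι X' inf_le_left) W ⊤ _) c)).trans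
      (hc.symm.trans (congr($(appLE_congr_hom hf₀.symm (p ⁻¹ᵁ U) ⊤ e') (pf p y)))))
  refine ⟨g₀ ≫ (p ⁻¹ᵁ U).ι, ?_, by rw [← Category.assoc, hg₀, hf₀]⟩
  have h2 : g₀ ≫ p.resLE U (p ⁻¹ᵁ U) le_rfl = φ.resLE U W P.le := by
    refine hinj.hom_ext_affine ?_
    rw [← cancel_mono U.ι]
    simp only [Category.assoc, Scheme.Hom.resLE_comp_ι, Scheme.homOfLE_ι_assoc]
    rw [← hkp, ← hf₀, ← hg₀, Category.assoc, Category.assoc]
  simpa using congrArg (· ≫ U.ι) h2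

include hp in
/-- The section extends when the polar parts vanish. -/
theorem exists_extension (hv : ∀ n, (Scheme.Modules.pullback φ).map (σ hI p hs n) = 0) :
    ∃ f : X' ⟶ Y, f ≫ p = φ ∧ (φ ⁻¹ᵁ compl I).ι ≫ f = (φ ∣_ compl I) ≫ s := by
  have hinj := injRes_preimage_compl hp
  choose U t W P hx using hp
  choose f hf using fun x : X' => exists_isExtn hI hs (fun y => ⟨U y, t y, W y, P y, hx y⟩) hv (P x)
  let 𝒰 : X'.OpenCover := X'.openCoverOfIsOpenCover W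
    (IsOpenCover.mk (eq_top_iff.2 fun x _ => Opens.mem_iSup.2 ⟨x, hx x⟩))
  have hcompat : ∀ i j : X', pullback.fst (W i).ι (W j).ι ≫ f i = pullback.snd (W i).ι (W j).ι ≫ f j := by
    intro i j
    have hr : Set.range (pullback.fst (W i).ι (W j).ι ≫ (W i).ι) ⊆ Set.range (W i ⊓ W j).ι := by
      rintro _ ⟨y, rfl⟩
      rw [Scheme.Opens.range_ι]
      refine ⟨(pullback.fst (W i).ι (W j).ι y).2, ?_⟩
      show (pullback.fst (W i).ι (W j).ι ≫ (W i).ι) y ∈ W j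
      rw [pullback.condition]
      exact (pullback.snd (W i).ι (W j).ι y).2
    let c := IsOpenImmersion.lift (W i ⊓ W j).ι _ hr
    have e1 : c ≫ X'.homOfLE (inf_le_left : W i ⊓ W j ≤ W i) = pullback.fst (W i).ι (W j).ι := by
      rw [← cancel_mono (W i).ι, Category.assoc, Scheme.homOfLE_ι, IsOpenImmersion.lift_fac]
    have e2 : c ≫ X'.homOfLE (inf_le_right : W i ⊓ W j ≤ W j) = pullback.snd (W i).ι (W j).ι := by
      rw [← cancel_mono (W j).ι, Category.assoc, Scheme.homOfLE_ι, IsOpenImmersion.lift_fac, pullback.condition]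
    rw [← e1, ← e2, Category.assoc, Category.assoc]
    exact congrArg (c ≫ ·) (hinj.hom_ext p φ ((hf i).restrict inf_le_left).1 ((hf j).restrict inf_le_right).1
      (((hf i).restrict inf_le_left).2.trans ((hf j).restrict inf_le_right).2.symm))
  let F : X' ⟶ Y := 𝒰.glueMorphisms f hcompat
  have hF : ∀ i, (W i).ι ≫ F = f i := fun i => 𝒰.ι_glueMorphisms f hcompat i
  refine ⟨F, 𝒰.hom_ext _ _ fun i => ?_, ?_⟩
  · show (W i).ι ≫ F ≫ p = (W i).ι ≫ φ
    rw [← Category.assoc, hF, (hf i).1]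
  · let 𝒱 : ((φ ⁻¹ᵁ compl I : X'.Opens) : Scheme.{u}).OpenCover := Scheme.Cover.mkOfCovers X'
      (fun i => (W i ⊓ φ ⁻¹ᵁ compl I : X'.Opens).toScheme) (fun i => X'.homOfLE inf_le_right)
      (fun x => ⟨x.1, ⟨x.1, hx _, x.2⟩, Subtype.ext (Scheme.homOfLE_apply _ _)⟩)
    refine 𝒱.hom_ext _ _ fun i => ?_
    show X'.homOfLE inf_le_right ≫ (φ ⁻¹ᵁ compl I).ι ≫ F = X'.homOfLE inf_le_right ≫ (φ ∣_ compl I) ≫ s
    have := (hf i).2
    rw [← hF i, Scheme.homOfLE_ι_assoc, toCompl, Category.assoc] at this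
    rw [Scheme.homOfLE_ι_assoc]
    exact this

end Groth.Agent.ExtCartier
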