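import Groth.Agent.ExtCartier.Poles
import Groth.Agent.ExtCartier.Alg
import Groth.Agent.QCoh.FlatOver
import Mathlib.AlgebraicGeometry.Morphisms.ClosedImmersion
import Mathlib.AlgebraicGeometry.Morphisms.Flat

/-!
# Flatness of the polar parts; base change of charts
-/

set_option backward.isDefEq.respectTransparency false
set_option backward.isDefEq.respectTransparency.types false
set_option linter.style.haveILetI false
set_option maxHeartbeats 1000000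

universe u

open CategoryTheory CategoryTheory.Limits AlgebraicGeometry TopologicalSpace Opposite

namespace Groth.Agent.ExtCartier

variable {Z S : Scheme.{u}} {I : Z.IdealSheafData} (π : Z ⟶ S)

theorem IsChart.flat_quot [Flat (I.subschemeι ≫ π)] {U : Z.Opens} {t : Γ(Z, U)} (h : IsChart I U t) {V : S.Opens}
    (hV : IsAffineOpen V) (e : U ≤ π ⁻¹ᵁ V) :
    letI := (π.appLE V U e).hom.toAlgebra
    Module.Flat Γ(S, V) (Γ(Z, U) ⧸ Ideal.span {t}) := by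
  letI := (π.appLE V U e).hom.toAlgebra
  let U' := I.subschemeι ⁻¹ᵁ U
  have e' : U' ≤ (I.subschemeι ≫ π) ⁻¹ᵁ V := by
    rw [Scheme.Hom.comp_preimage]; exact I.subschemeι.preimage_mono e
  have hflat : RingHom.Flat ((I.subschemeι ≫ π).appLE V U' e').hom :=
    HasRingHomProperty.appLE (P := @Flat) (I.subschemeι ≫ π) inferInstance ⟨V, hV⟩
      ⟨U', h.affine.preimage I.subschemeι⟩ e'
  have hcomp : (I.subschemeι ≫ π).appLE V U' e' = π.appLE V U e ≫ I.subschemeι.app U := by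
    rw [Scheme.Hom.app_eq_appLE, Scheme.Hom.appLE_comp_appLE]
  rw [hcomp] at hflat
  letI : Algebra Γ(S, V) Γ(I.subscheme, U') := (π.appLE V U e ≫ I.subschemeι.app U).hom.toAlgebra
  haveI : Module.Flat Γ(S, V) Γ(I.subscheme, U') := hflat
  let φ : Γ(Z, U) →ₐ[Γ(S, V)] Γ(I.subscheme, U') := { (I.subschemeι.app U).hom with commutes' := fun _ => rfl }
  have hφ : Function.Surjective φ := I.subschemeι_app_surjective ⟨U, h.affine⟩
  have hker : RingHom.ker φ = Ideal.span {t} := (I.ker_subschemeι_app ⟨U, h.affine⟩).trans h.ideal_eq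
  exact Module.Flat.of_linearEquiv
    ((Ideal.quotientEquivAlgOfEq Γ(S, V) hker.symm).trans (Ideal.quotientKerAlgEquivOfSurjective hφ)).toLinearEquiv

variable (hI : FGA.IsEffCartier I) (n : ℕ)

theorem isFlatOver_polar [Flat (I.subschemeι ≫ π)] : FlatMod.IsFlatOver π (Polar hI n) := by
  intro x
  obtain ⟨V, hV, hxV, -⟩ := exists_isAffineOpen_mem_and_subset (x := π x) (U := ⊤) trivial
  obtain ⟨U, t, h, hxU, hUV⟩ := exists_chart hI (π ⁻¹ᵁ V) x hxV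
  letI := (π.appLE V U hUV).hom.toAlgebra
  haveI := h.flat_quot π hV hUV
  haveI : Module.Flat Γ(S, V) (Γ(Z, U) ⧸ Ideal.span {t ^ n}) := flat_quot_pow h.nzd n
  obtain ⟨e, -⟩ := exists_chartEquiv hI n h
  letI : Module Γ(S, V) Γ(Polar hI n, U) := Module.compHom _ (π.appLE V U hUV).hom
  haveI : IsScalarTower Γ(S, V) Γ(Z, U) Γ(Polar hI n, U) := .of_algebraMap_smul fun _ _ => rfl
  exact (QCoh.flat_appLE_iff π (isQCoh_polar hI n) h.affine hV hUV).1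
    (Module.Flat.of_linearEquiv (e.restrictScalars Γ(S, V)).symm) x hxU

/-- Sections over affine opens of a cartesian square form a pushout of rings. -/
theorem isPushout_appLE_of_opens {P X T S : Scheme.{u}} {g : P ⟶ X} {iY : P ⟶ T} {iX : X ⟶ S} {f : T ⟶ S}
    (H : IsPullback g iY iX f) {US : S.Opens} (hS : IsAffineOpen US) {UT : T.Opens} (hT : IsAffineOpen UT)
    {UX : X.Opens} (hX : IsAffineOpen UX) (eT : UT ≤ f ⁻¹ᵁ US) (eX : UX ≤ iX ⁻¹ᵁ US) :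
    IsAffineOpen (g ⁻¹ᵁ UX ⊓ iY ⁻¹ᵁ UT) ∧
    IsPushout (iX.appLE US UX eX) (f.appLE US UT eT) (g.appLE UX (g ⁻¹ᵁ UX ⊓ iY ⁻¹ᵁ UT) inf_le_left)
      (iY.appLE UT (g ⁻¹ᵁ UX ⊓ iY ⁻¹ᵁ UT) inf_le_right) := by
  have h := Scheme.Hom.isPullback_resLE H eT eX (UY := g ⁻¹ᵁ UX ⊓ iY ⁻¹ᵁ UT) rfl
  haveI : IsAffine US.toScheme := hS
  haveI : IsAffine UT.toScheme := hT
  haveI : IsAffine UX.toScheme := hX
  haveI : IsAffineHom (f.resLE US UT eT) := isAffineHom_of_isAffine _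
  refine ⟨IsAffine.of_isPullback h, ?_⟩
  refine (isPushout_appTop_of_isPullback h).of_iso US.topIso UX.topIso UT.topIso
    (Scheme.Opens.topIso (g ⁻¹ᵁ UX ⊓ iY ⁻¹ᵁ UT)) ?_ ?_ ?_ ?_ <;>
  · simp [Scheme.Hom.appTop, Scheme.Opens.topIso_hom, eqToHom_op, Scheme.Hom.resLE_app_top]

variable {π}

/-- After base change an equation stays regular. -/
theorem IsChart.nzd_baseChange [Flat (I.subschemeι ≫ π)] {T X' : Scheme.{u}} {g : T ⟶ S} {φ : X' ⟶ Z} {p' : X' ⟶ T}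
    (H : IsPullback φ p' π g) {U : Z.Opens} {t : Γ(Z, U)} (h : IsChart I U t) {V : S.Opens} (hV : IsAffineOpen V)
    (eU : U ≤ π ⁻¹ᵁ V) {T' : T.Opens} (hT : IsAffineOpen T') (eT : T' ≤ g ⁻¹ᵁ V) :
    IsAffineOpen (φ ⁻¹ᵁ U ⊓ p' ⁻¹ᵁ T') ∧
      φ.appLE U (φ ⁻¹ᵁ U ⊓ p' ⁻¹ᵁ T') inf_le_left t ∈ nonZeroDivisors Γ(X', φ ⁻¹ᵁ U ⊓ p' ⁻¹ᵁ T') := by
  obtain ⟨hW, hpo⟩ := isPushout_appLE_of_opens H hV hT h.affine eT eU
  refine ⟨hW, ?_⟩
  let A := Γ(S, V)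
  letI : Algebra A Γ(Z, U) := (π.appLE V U eU).hom.toAlgebra
  letI : Algebra A Γ(T, T') := (g.appLE V T' eT).hom.toAlgebra
  letI : Algebra Γ(Z, U) Γ(X', φ ⁻¹ᵁ U ⊓ p' ⁻¹ᵁ T') := (φ.appLE U (φ ⁻¹ᵁ U ⊓ p' ⁻¹ᵁ T') inf_le_left).hom.toAlgebra
  letI : Algebra Γ(T, T') Γ(X', φ ⁻¹ᵁ U ⊓ p' ⁻¹ᵁ T') := (p'.appLE T' (φ ⁻¹ᵁ U ⊓ p' ⁻¹ᵁ T') inf_le_right).hom.toAlgebra
  letI : Algebra A Γ(X', φ ⁻¹ᵁ U ⊓ p' ⁻¹ᵁ T') :=
    (π.appLE V U eU ≫ φ.appLE U (φ ⁻¹ᵁ U ⊓ p' ⁻¹ᵁ T') inf_le_left).hom.toAlgebra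
  haveI : IsScalarTower A Γ(Z, U) Γ(X', φ ⁻¹ᵁ U ⊓ p' ⁻¹ᵁ T') := IsScalarTower.of_algebraMap_eq fun _ => rfl
  haveI : IsScalarTower A Γ(T, T') Γ(X', φ ⁻¹ᵁ U ⊓ p' ⁻¹ᵁ T') := IsScalarTower.of_algebraMap_eq fun a =>
    congr($(hpo.w) a)
  haveI : Algebra.IsPushout A Γ(T, T') Γ(Z, U) Γ(X', φ ⁻¹ᵁ U ⊓ p' ⁻¹ᵁ T') :=
    CommRingCat.isPushout_iff_isPushout.1 hpo.flip
  haveI := h.flat_quot π hV eU
  exact nonZeroDivisors_baseChange (A := Γ(S, V)) (R := Γ(T, T')) h.nzd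

end Groth.Agent.ExtCartier
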