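import Groth.Agent.ExtCartier.Poles
import Groth.Agent.QCoh.Pullback
import Groth.Agent.QCoh.SubCompare
import Mathlib.Algebra.Category.ModuleCat.Sheaf.PullbackFree

/-!
# The functions upstairs with poles of bounded order
-/

set_option backward.isDefEq.respectTransparency false
set_option backward.isDefEq.respectTransparency.types false
set_option linter.style.haveILetI false
set_option maxHeartbeats 1000000

universe u

open CategoryTheory CategoryTheory.Limits AlgebraicGeometry TopologicalSpace Opposite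

namespace Groth.Agent.ExtCartier

variable {Z Y : Scheme.{u}} {I : Z.IdealSheafData} (hI : FGA.IsEffCartier I) (p : Y ⟶ Z)
  {s : (compl I : Scheme.{u}) ⟶ Y} (hs : s ≫ p = (compl I).ι) (n : ℕ)

/-- The functions of `Y` pushed to `Z`. -/
noncomputable abbrev pushO : Z.Modules := (Scheme.Modules.pushforward p).obj (Coh.structureModule Y)

/-- Sections of `pushO p` are functions on `Y`. -/
noncomputable abbrev pf {V : Z.Opens} (y : Γ(pushO p, V)) : Γ(Y, p ⁻¹ᵁ V) := y

include hs in
theorem compl_preimage_le (V : Z.Opens) : (compl I).ι ⁻¹ᵁ V ≤ s ⁻¹ᵁ (p ⁻¹ᵁ V) := by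
  rw [← hs, Scheme.Hom.comp_preimage]

/-- Restriction of functions along the section over the complement. -/
noncomputable def τ : pushO p ⟶ W I :=
  (Scheme.Modules.pushforward p).map (SheafOfModules.unitToPushforwardObjUnit s.toRingCatSheafHom) ≫
    (Scheme.Modules.pushforwardComp s p).hom.app _ ≫ (Scheme.Modules.pushforwardCongr hs).hom.app _

theorem wf_τ (V : Z.Opens) (y : Γ(pushO p, V)) :
    wf I ((τ p hs).app V y) = s.appLE (p ⁻¹ᵁ V) ((compl I).ι ⁻¹ᵁ V) (compl_preimage_le p hs V) (pf p y) := rfl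

/-- The functions with poles of order at most `n`. -/
def polesPre : QCoh.SubMod (pushO p) where
  mem V :=
    { carrier := {y | (τ p hs).app V y ∈ (poles hI n).mem V}
      zero_mem' := by simp only [Set.mem_ofPred_eq, map_zero, zero_mem]
      add_mem' := fun hx hy => by simp only [Set.mem_ofPred_eq, map_add]; exact add_mem hx hy
      smul_mem' := fun r x hx => by
        simp only [Set.mem_ofPred_eq, Scheme.Modules.Hom.app_smul]
        exact Submodule.smul_mem _ r hx }
  map_mem {U V} i {y} hy := by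
    show (τ p hs).app V _ ∈ (poles hI n).mem V
    rw [QCoh.map_app_comm]
    exact (poles hI n).map_mem i hy
  of_locally V y h := by
    refine (poles hI n).of_locally V _ fun x hx => ?_
    obtain ⟨V', i, hxV', h'⟩ := h x hx
    refine ⟨V', i, hxV', ?_⟩
    rw [← QCoh.map_app_comm]
    exact h'

/-- The sheaf of functions with poles of order at most `n`. -/
noncomputable def G : Z.Modules := kernel (τ p hs ≫ cokernel.π (poles hI n).ι)

/-- The inclusion. -/
noncomputable def G.ι : G hI p hs n ⟶ pushO p := kernel.ι _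

theorem isQCoh_G [IsAffineHom p] : Coh.IsQCoh (G hI p hs n) :=
  QCoh.isQCoh_kernel (QCoh.isQCoh_pushforward _ QCoh.isQCoh_structureModule)
    (QCoh.isQCoh_cokernel (isQCoh_poles hI n) (isQCoh_W hI) _) _

theorem exists_G_app_eq {V : Z.Opens} {y : Γ(pushO p, V)} (hy : (τ p hs).app V y ∈ (poles hI n).mem V) :
    ∃ x : Γ(G hI p hs n, V), (G.ι hI p hs n).app V x = y := by
  have h0 : (polesPre hI p hs n).ι ≫ τ p hs ≫ cokernel.π (poles hI n).ι = 0 := by
    refine Scheme.Modules.hom_ext _ _ fun V => ?_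
    ext x
    exact (QCoh.mem_range_iff_cokernel (poles hI n).ι V _).2
      ((poles hI n).exists_app_eq ((polesPre hI p hs n).ι_app_mem V x))
  obtain ⟨y', rfl⟩ := (polesPre hI p hs n).exists_app_eq (s := y) hy
  exact ⟨(kernel.lift _ _ h0).app V y',
    congrArg (fun φ : (polesPre hI p hs n).toModules ⟶ pushO p => Scheme.Modules.Hom.app φ V y')
      (kernel.lift_ι _ _ h0)⟩

theorem exists_G_lift :
    ∃ l : G hI p hs n ⟶ (poles hI n).toModules, l ≫ (poles hI n).ι = G.ι hI p hs n ≫ τ p hs := by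
  obtain ⟨l, hl⟩ := KernelFork.IsLimit.lift' (Abelian.monoIsKernelOfCokernel _ (cokernelIsCokernel (poles hI n).ι))
    (G.ι hI p hs n ≫ τ p hs) ((Category.assoc _ _ _).trans (kernel.condition _))
  exact ⟨l, hl⟩

/-- Taking polar parts. -/
noncomputable def σ : G hI p hs n ⟶ Polar hI n := (exists_G_lift hI p hs n).choose ≫ polarπ hI n

theorem exists_σ_app {V : Z.Opens} (x : Γ(G hI p hs n, V)) :
    ∃ z : Γ((poles hI n).toModules, V), (σ hI p hs n).app V x = (polarπ hI n).app V z ∧
      (poles hI n).ι.app V z = (τ p hs).app V ((G.ι hI p hs n).app V x) :=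
  ⟨(exists_G_lift hI p hs n).choose.app V x, rfl,
    congrArg (fun φ : G hI p hs n ⟶ W I => Scheme.Modules.Hom.app φ V x) (exists_G_lift hI p hs n).choose_spec⟩

theorem mem_poles_of_eq {U : Z.Opens} {t : Γ(Z, U)} (h : IsChart I U t) {x : Γ(W I, U)} {a : Γ(Z, U)}
    (hx : res I U t ^ n * wf I x = res I U a) : x ∈ (poles hI n).mem U := by
  intro U' t' h' e
  obtain ⟨c, rfl⟩ := h.ideal_map h' e
  refine ⟨c ^ n * Z.presheaf.map (homOfLE e).op a, ?_⟩
  have h1 := congrArg ((compl I : Scheme.{u}).presheaf.map (homOfLE ((compl I).ι.preimage_mono e)).op) hx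
  rw [map_mul, map_pow, res_map e, ← wf_map I e, res_map e] at h1
  rw [map_mul, map_mul, ← h1, map_pow, mul_pow, mul_assoc]

theorem exists_pow_mul_eq {U : Z.Opens} {t : Γ(Z, U)} (h : IsChart I U t)
    (x : Γ((compl I : Scheme.{u}), (compl I).ι ⁻¹ᵁ U)) : ∃ (m : ℕ) (a : Γ(Z, U)), res I U t ^ m * x = res I U a := by
  have e1 : (compl I).ι ''ᵁ ((compl I).ι ⁻¹ᵁ U) = Z.basicOpen t := by
    rw [Scheme.Hom.image_preimage_eq_opensRange_inf, Scheme.Opens.opensRange_ι, h.preimage_eq, inf_comm]
  have key : ∀ (O : Z.Opens) (e : O ≤ U) (_ : O = Z.basicOpen t) (x : Γ(Z, O)), ∃ (m : ℕ) (a : Γ(Z, U)),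
      Z.presheaf.map (homOfLE e).op t ^ m * x = Z.presheaf.map (homOfLE e).op a := by
    rintro O e rfl x
    letI := (Z.presheaf.map (homOfLE (Z.basicOpen_le t)).op).hom.toAlgebra
    haveI := h.affine.isLocalization_basicOpen t
    obtain ⟨⟨a, ⟨_, m, rfl⟩⟩, ha⟩ := IsLocalization.surj (Submonoid.powers t) x
    exact ⟨m, a, by rw [← map_pow, mul_comm]; exact ha⟩
  obtain ⟨m, a, ha⟩ := key _ _ e1 x
  refine ⟨m, a, ?_⟩
  rw [res_eq]
  exact ha

end Groth.Agent.ExtCartier
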