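import Groth.Agent.ExtCartier.Gen
import Groth.Agent.ExtCartier.Flat
import Groth.Agent.ExtCartier.Dense
import Groth.Agent.VanLoc.Sections

/-!
# The pieces of a base change and divisibility by the equation
-/

set_option backward.isDefEq.respectTransparency false
set_option backward.isDefEq.respectTransparency.types false
set_option linter.style.haveILetI false
set_option maxHeartbeats 1000000

universe u

open CategoryTheory CategoryTheory.Limits AlgebraicGeometry TopologicalSpace Opposite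
open scoped TensorProduct

namespace Groth.Agent.ExtCartier

variable {Z X' : Scheme.{u}} {I : Z.IdealSheafData} (φ : X' ⟶ Z)

/-- An affine open upstairs over a chart on which the equation stays regular. -/
structure Piece (I : Z.IdealSheafData) (U : Z.Opens) (t : Γ(Z, U)) (W : X'.Opens) : Prop where
  chart : IsChart I U t
  affine : IsAffineOpen W
  le : W ≤ φ ⁻¹ᵁ U
  nzd : φ.appLE U W le t ∈ nonZeroDivisors Γ(X', W)

variable {φ}

theorem exists_piece {S T : Scheme.{u}} {π : Z ⟶ S} [Flat (I.subschemeι ≫ π)] {g : T ⟶ S} {p' : X' ⟶ T}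
    (hI : FGA.IsEffCartier I) (H : IsPullback φ p' π g) (x : X') :
    ∃ (U : Z.Opens) (t : Γ(Z, U)) (W : X'.Opens), Piece φ I U t W ∧ x ∈ W := by
  obtain ⟨V, hV, hxV, -⟩ := exists_isAffineOpen_mem_and_subset (x := π (φ x)) (U := ⊤) trivial
  obtain ⟨U, t, h, hxU, hUV⟩ := exists_chart hI (π ⁻¹ᵁ V) (φ x) hxV
  have hgx : p' x ∈ g ⁻¹ᵁ V := by
    show g (p' x) ∈ V
    rw [← Scheme.Hom.comp_apply, ← H.w]
    exact hxV
  obtain ⟨T', hT, hxT, hTV⟩ := exists_isAffineOpen_mem_and_subset (x := p' x) (U := g ⁻¹ᵁ V) hgx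
  obtain ⟨hW, hn⟩ := h.nzd_baseChange H hV hUV hT hTV
  exact ⟨U, t, _, ⟨h, hW, inf_le_left, hn⟩, hxU, hxT⟩

theorem injRes_preimage_compl (hp : ∀ x : X', ∃ (U : Z.Opens) (t : Γ(Z, U)) (W : X'.Opens),
    Piece φ I U t W ∧ x ∈ W) : InjRes (φ ⁻¹ᵁ compl I) := by
  refine injRes_of_regular fun x => ?_
  obtain ⟨U, t, W, P, hx⟩ := hp x
  refine ⟨W, φ.appLE U W P.le t, P.affine, hx, P.nzd, ?_⟩
  rw [Scheme.basicOpen_appLE, P.chart.preimage_eq]
  exact inf_le_right.trans (φ.preimage_mono inf_le_right)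

theorem appLE_congr_hom {A B : Scheme.{u}} {f f' : A ⟶ B} (h : f = f') (U : B.Opens) (V : A.Opens)
    (e : V ≤ f ⁻¹ᵁ U) : f.appLE U V e = f'.appLE U V (h ▸ e) := by
  subst h; rfl

variable (φ) in
/-- The part of an open lying over the complement, mapped to the complement. -/
noncomputable def toCompl (I : Z.IdealSheafData) (W : X'.Opens) :
    ((W ⊓ φ ⁻¹ᵁ compl I : X'.Opens) : Scheme.{u}) ⟶ compl I :=
  X'.homOfLE inf_le_right ≫ φ ∣_ compl I

theorem toCompl_ι (W : X'.Opens) : toCompl φ I W ≫ (compl I).ι = (W ⊓ φ ⁻¹ᵁ compl I).ι ≫ φ := by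
  rw [toCompl, Category.assoc, morphismRestrict_ι, Scheme.homOfLE_ι_assoc]

theorem top_le_ι_preimage (W : X'.Opens) : (⊤ : ((W ⊓ φ ⁻¹ᵁ compl I : X'.Opens) : Scheme.{u}).Opens) ≤
    (W ⊓ φ ⁻¹ᵁ compl I).ι ⁻¹ᵁ W := fun x _ => x.2.1

variable (φ) in
/-- Functions on an open to functions on its part over the complement. -/
noncomputable abbrev rho (I : Z.IdealSheafData) (W : X'.Opens) :=
  (W ⊓ φ ⁻¹ᵁ compl I).ι.appLE W ⊤ (top_le_ι_preimage W)

theorem top_le_toCompl_preimage {U : Z.Opens} {W : X'.Opens} (e : W ≤ φ ⁻¹ᵁ U) :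
    (⊤ : ((W ⊓ φ ⁻¹ᵁ compl I : X'.Opens) : Scheme.{u}).Opens) ≤ toCompl φ I W ⁻¹ᵁ ((compl I).ι ⁻¹ᵁ U) := by
  rw [← Scheme.Hom.comp_preimage, toCompl_ι, Scheme.Hom.comp_preimage]
  exact fun x _ => e x.2.1

theorem toCompl_res {U : Z.Opens} {W : X'.Opens} (e : W ≤ φ ⁻¹ᵁ U) (a : Γ(Z, U)) :
    (toCompl φ I W).appLE ((compl I).ι ⁻¹ᵁ U) ⊤ (top_le_toCompl_preimage e) (res I U a) =
      rho φ I W (φ.appLE U W e a) := by
  rw [← CommRingCat.comp_apply, ← CommRingCat.comp_apply]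
  show ((compl I).ι.app U ≫ _) a = _
  rw [Scheme.Hom.app_eq_appLE, Scheme.Hom.appLE_comp_appLE, Scheme.Hom.appLE_comp_appLE]
  exact congr($(appLE_congr_hom (toCompl_ι W) U ⊤ _) a)

theorem toCompl_comp {Y : Scheme.{u}} {p : Y ⟶ Z} {s : (compl I : Scheme.{u}) ⟶ Y} (hs : s ≫ p = (compl I).ι)
    {U : Z.Opens} {W : X'.Opens} (e : W ≤ φ ⁻¹ᵁ U) (e' : ⊤ ≤ (toCompl φ I W ≫ s) ⁻¹ᵁ (p ⁻¹ᵁ U))
    (y : Γ(pushO p, U)) :
    (toCompl φ I W).appLE ((compl I).ι ⁻¹ᵁ U) ⊤ (top_le_toCompl_preimage e) (wf I ((τ p hs).app U y)) =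
      (toCompl φ I W ≫ s).appLE (p ⁻¹ᵁ U) ⊤ e' (pf p y) := by
  rw [wf_τ, ← CommRingCat.comp_apply, Scheme.Hom.appLE_comp_appLE]

variable (hI : FGA.IsEffCartier I) (n : ℕ)

/-- A polar part dies upstairs iff the numerator is divisible by the equation. -/
theorem pullSec_polarπ_eq_zero_iff {U : Z.Opens} {t : Γ(Z, U)} {W : X'.Opens} (P : Piece φ I U t W)
    (z : Γ((poles hI n).toModules, U)) (a : Γ(Z, U))
    (ha : res I U t ^ n * wf I ((poles hI n).ι.app U z) = res I U a) :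
    QCoh.pullSec φ (Polar hI n) P.le ((polarπ hI n).app U z) = 0 ↔
      φ.appLE U W P.le t ^ n ∣ φ.appLE U W P.le a := by
  obtain ⟨e, he⟩ := exists_chartEquiv hI n P.chart
  letI : Algebra Γ(Z, U) Γ(X', W) := (φ.appLE U W P.le).hom.toAlgebra
  letI : Module Γ(Z, U) Γ((Scheme.Modules.pullback φ).obj (Polar hI n), W) :=
    Module.compHom _ (φ.appLE U W P.le).hom
  haveI : IsScalarTower Γ(Z, U) Γ(X', W) Γ((Scheme.Modules.pullback φ).obj (Polar hI n), W) :=
    ⟨fun a b c => mul_smul ((φ.appLE U W P.le).hom a) b c⟩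
  obtain ⟨l, hl, hb⟩ := ExistEasy.exists_pullSec_baseChange φ (isQCoh_polar hI n) P.affine P.chart.affine P.le
  rw [he z a ha, ← hl]
  constructor
  · intro h
    let m : (Γ(Z, U) ⧸ Ideal.span {t ^ n}) →ₗ[Γ(Z, U)]
        Γ(X', W) ⧸ Ideal.span {φ.appLE U W P.le t ^ n} :=
      Submodule.liftQ (R₂ := Γ(Z, U)) (M₂ := Γ(X', W) ⧸ Ideal.span {φ.appLE U W P.le t ^ n}) (Ideal.span {t ^ n})
        (Algebra.linearMap Γ(Z, U) (Γ(X', W) ⧸ Ideal.span {φ.appLE U W P.le t ^ n})) (by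
          intro r hr
          obtain ⟨c, rfl⟩ := Ideal.mem_span_singleton.1 hr
          rw [LinearMap.mem_ker, Algebra.linearMap_apply, IsScalarTower.algebraMap_apply Γ(Z, U) Γ(X', W),
            Ideal.Quotient.algebraMap_eq, Ideal.Quotient.eq_zero_iff_mem, map_mul, map_pow]
          exact Ideal.mem_span_singleton.2 (dvd_mul_right _ _))
    have h1 := congrArg (hb.lift (m ∘ₗ e.symm.toLinearMap)) h
    rw [hb.lift_eq, map_zero, LinearMap.comp_apply, LinearEquiv.coe_toLinearMap, LinearEquiv.symm_apply_apply] at h1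
    exact Ideal.mem_span_singleton.1 (Ideal.Quotient.eq_zero_iff_mem.1 h1)
  · rintro ⟨c, hc⟩
    have h0 : t ^ n • e (Submodule.Quotient.mk 1) = 0 := by
      rw [← map_smul, ← Submodule.Quotient.mk_smul, smul_eq_mul, mul_one,
        (Submodule.Quotient.mk_eq_zero _).2 (Ideal.mem_span_singleton_self _), map_zero]
    have h1 : φ.appLE U W P.le t ^ n • l (e (Submodule.Quotient.mk 1)) = 0 := by
      rw [← map_pow]
      exact ((l.map_smul _ _).symm.trans (congrArg l h0)).trans (map_zero l)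
    have h2 : Submodule.Quotient.mk (p := Ideal.span {t ^ n}) a = a • Submodule.Quotient.mk 1 := by
      rw [← Submodule.Quotient.mk_smul, smul_eq_mul, mul_one]
    rw [h2, map_smul, map_smul]
    show φ.appLE U W P.le a • l (e (Submodule.Quotient.mk 1)) = 0
    rw [hc, mul_comm, mul_smul, h1, smul_zero]

end Groth.Agent.ExtCartier
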