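import Groth.Agent.ExtCartier.Chart
import Groth.Agent.QCoh.ExtendFT
import Groth.Agent.QCoh.Support

/-!
# The sheaf of functions on the complement with poles of bounded order, modulo functions
-/

set_option backward.isDefEq.respectTransparency false
set_option backward.isDefEq.respectTransparency.types false
set_option linter.style.haveILetI false
set_option maxHeartbeats 1000000

universe u

open CategoryTheory CategoryTheory.Limits AlgebraicGeometry TopologicalSpace Opposite

namespace Groth.Agent.ExtCartier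

variable {Z : Scheme.{u}} (I : Z.IdealSheafData)

/-- The direct image of the functions on the complement. -/
noncomputable abbrev W : Z.Modules := (Scheme.Modules.pushforward (compl I).ι).obj (Coh.structureModule (compl I))

/-- Sections of `W` are functions. -/
noncomputable abbrev wf {V : Z.Opens} (x : Γ(W I, V)) : Γ((compl I : Scheme.{u}), (compl I).ι ⁻¹ᵁ V) := x

theorem wf_smul {V : Z.Opens} (r : Γ(Z, V)) (x : Γ(W I, V)) : wf I (r • x) = res I V r * wf I x := rfl

theorem wf_map {V V' : Z.Opens} (e : V' ≤ V) (x : Γ(W I, V)) :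
    wf I ((W I).presheaf.map (homOfLE e).op x) =
      (compl I : Scheme.{u}).presheaf.map (homOfLE ((compl I).ι.preimage_mono e)).op (wf I x) := rfl

/-- Functions to functions on the complement. -/
noncomputable def toW : Coh.structureModule Z ⟶ W I :=
  SheafOfModules.unitToPushforwardObjUnit (compl I).ι.toRingCatSheafHom

theorem wf_toW (V : Z.Opens) (a : Γ(Z, V)) : wf I ((toW I).app V a) = res I V a := rfl

variable {I} (hI : FGA.IsEffCartier I) (n : ℕ)

theorem IsChart.ideal_map {U U' : Z.Opens} {t : Γ(Z, U)} {t' : Γ(Z, U')} (h : IsChart I U t) (h' : IsChart I U' t')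
    (e : U' ≤ U) : ∃ c : Γ(Z, U'), t' = c * Z.presheaf.map (homOfLE e).op t := by
  have h1 := I.map_ideal (U := ⟨U', h'.affine⟩) (V := ⟨U, h.affine⟩) e
  rw [h.ideal_eq, h'.ideal_eq, Ideal.map_span, Set.image_singleton] at h1
  obtain ⟨c, hc⟩ := Ideal.mem_span_singleton'.1 (h1.ge (Ideal.mem_span_singleton_self t'))
  exact ⟨c, hc.symm⟩

include hI in
/-- Poles of order at most `n` along the divisor. -/
def poles : QCoh.SubMod (W I) where
  mem V :=
    { carrier := {x | ∀ (U : Z.Opens) (t : Γ(Z, U)), IsChart I U t → ∀ e : U ≤ V,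
        res I U t ^ n * wf I ((W I).presheaf.map (homOfLE e).op x) ∈ Set.range (res I U)}
      zero_mem' := fun U t _ e => ⟨0, by rw [map_zero, map_zero]; exact (mul_zero _).symm⟩
      add_mem' := fun {x y} hx hy U t h e => by
        obtain ⟨a, ha⟩ := hx U t h e
        obtain ⟨b, hb⟩ := hy U t h e
        refine ⟨a + b, ?_⟩
        rw [map_add, ha, hb, map_add]
        exact (mul_add _ _ _).symm
      smul_mem' := fun r x hx U t h e => by
        obtain ⟨a, ha⟩ := hx U t h e
        refine ⟨Z.presheaf.map (homOfLE e).op r * a, ?_⟩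
        rw [map_mul, ha, QCoh.map_smul', wf_smul]
        ring }
  map_mem {U V} i s hs U' t h e := by
    have := hs U' t h (e.trans i)
    rwa [QCoh.map_map]
  of_locally V x hx U t h e := by
    refine mem_range_res_of_locally hI U _ fun z hz => ?_
    obtain ⟨V', i, hzV', hmem⟩ := hx z (e hz)
    obtain ⟨a, haV', hza⟩ := h.affine.exists_basicOpen_le ⟨z, hzV'⟩ hz
    refine ⟨Z.basicOpen a, Z.basicOpen_le a, hza, ?_⟩
    obtain ⟨b, hb⟩ := hmem _ _ (h.basicOpen a) haV'
    refine ⟨b, hb.trans ?_⟩
    rw [QCoh.map_map, map_mul, map_pow, res_map (Z.basicOpen_le a), ← wf_map I (Z.basicOpen_le a), QCoh.map_map]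
    rfl

/-- The inverse of the equation, to the power `n`. -/
noncomputable def invPow {U : Z.Opens} {t : Γ(Z, U)} (h : IsChart I U t) : Γ(W I, U) :=
  show Γ((compl I : Scheme.{u}), (compl I).ι ⁻¹ᵁ U) from ↑(h.isUnit_res.unit⁻¹ ^ n)

theorem res_pow_mul_invPow {U : Z.Opens} {t : Γ(Z, U)} (h : IsChart I U t) :
    res I U t ^ n * wf I (invPow n h) = 1 := by
  show res I U t ^ n * ↑(h.isUnit_res.unit⁻¹ ^ n) = 1
  rw [Units.val_pow_eq_pow_val, ← mul_pow, IsUnit.mul_val_inv, one_pow]

theorem invPow_mem {U : Z.Opens} {t : Γ(Z, U)} (h : IsChart I U t) : invPow n h ∈ (poles hI n).mem U := by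
  intro U' t' h' e
  obtain ⟨c, rfl⟩ := h.ideal_map h' e
  refine ⟨c ^ n, ?_⟩
  have h1 := congrArg ((compl I : Scheme.{u}).presheaf.map (homOfLE ((compl I).ι.preimage_mono e)).op) (res_pow_mul_invPow n h)
  rw [map_mul, map_pow, map_one, res_map e, ← wf_map I e] at h1
  rw [map_mul, mul_pow, map_pow, mul_assoc, h1, mul_one]

include hI in
/-- On a chart, membership is division by the equation. -/
theorem exists_smul_invPow {U : Z.Opens} {t : Γ(Z, U)} (h : IsChart I U t) {x : Γ(W I, U)}
    (hx : x ∈ (poles hI n).mem U) : ∃ a : Γ(Z, U), x = a • invPow n h ∧ res I U t ^ n * wf I x = res I U a := by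
  obtain ⟨a, ha⟩ := hx U t h le_rfl
  rw [QCoh.map_id'] at ha
  refine ⟨a, ?_, ha.symm⟩
  show wf I x = wf I (a • invPow n h)
  rw [wf_smul, ha, mul_comm (res I U t ^ n), mul_assoc, res_pow_mul_invPow, mul_one]

include hI in
theorem ftOn_poles : QCoh.FTOn (poles hI n) ⊤ := by
  intro x _
  obtain ⟨U, t, h, hx, -⟩ := exists_chart hI ⊤ x trivial
  refine ⟨U, h.affine, hx, le_top, {invPow n h}, Set.finite_singleton _, ?_, fun O hO s hs y hy => ?_⟩
  · rintro _ rfl
    exact invPow_mem hI n h
  · obtain ⟨a, haO, hya⟩ := h.affine.exists_basicOpen_le ⟨y, hy⟩ (hO hy)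
    refine ⟨Z.basicOpen a, haO, hya, ?_⟩
    obtain ⟨b, hb, -⟩ := exists_smul_invPow hI n (h.basicOpen a) ((poles hI n).map_mem haO hs)
    rw [QCoh.rs, hb]
    have he : invPow n (h.basicOpen a) = QCoh.rs (W I) (haO.trans hO) (invPow n h) := by
      have h1 := congrArg ((compl I : Scheme.{u}).presheaf.map
        (homOfLE ((compl I).ι.preimage_mono (haO.trans hO))).op) (res_pow_mul_invPow n h)
      rw [map_mul, map_pow, map_one, res_map (haO.trans hO), ← wf_map I (haO.trans hO)] at h1
      exact ((h.basicOpen a).isUnit_res.pow n).mul_left_cancel ((res_pow_mul_invPow n (h.basicOpen a)).trans h1.symm)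
    rw [he]
    exact Submodule.smul_mem _ _ (Submodule.subset_span ⟨_, rfl, rfl⟩)

include hI in
theorem toW_mem (V : Z.Opens) (a : Γ(Z, V)) : (toW I).app V a ∈ (poles hI n).mem V := by
  intro U t h e
  refine ⟨t ^ n * Z.presheaf.map (homOfLE e).op a, ?_⟩
  rw [map_mul, map_pow, ← QCoh.map_app_comm, wf_toW]
  rfl

include hI in
theorem exists_lift : ∃ e : Coh.structureModule Z ⟶ (poles hI n).toModules, e ≫ (poles hI n).ι = toW I := by
  have h0 : toW I ≫ cokernel.π (poles hI n).ι = 0 := by
    refine Scheme.Modules.hom_ext _ _ fun V => ?_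
    ext a
    exact (QCoh.mem_range_iff_cokernel (poles hI n).ι V _).2 ((poles hI n).exists_app_eq (toW_mem hI n V a))
  obtain ⟨l, hl⟩ := KernelFork.IsLimit.lift' (Abelian.monoIsKernelOfCokernel _ (cokernelIsCokernel (poles hI n).ι))
    (toW I) h0
  exact ⟨l, hl⟩

/-- The inclusion of functions. -/
noncomputable def inclO : Coh.structureModule Z ⟶ (poles hI n).toModules := (exists_lift hI n).choose

theorem inclO_ι : inclO hI n ≫ (poles hI n).ι = toW I := (exists_lift hI n).choose_spec

instance : Mono (inclO hI n) := by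
  have : Mono (toW I) := QCoh.mono_of_app_injective _ fun V => res_injective hI V
  exact mono_of_mono_fac (inclO_ι hI n)

/-- Polar parts of order at most `n`. -/
noncomputable def Polar : Z.Modules := cokernel (inclO hI n)

/-- The projection to polar parts. -/
noncomputable def polarπ : (poles hI n).toModules ⟶ Polar hI n := cokernel.π _

theorem isQCoh_W (hI : FGA.IsEffCartier I) : Coh.IsQCoh (W I) := by
  haveI := isAffineHom_compl hI
  exact QCoh.isQCoh_pushforward _ QCoh.isQCoh_structureModule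

theorem isQCoh_poles : Coh.IsQCoh (poles hI n).toModules :=
  QCoh.isQCoh_of_ftOn (isQCoh_W hI) (ftOn_poles hI n)

theorem isQCoh_polar : Coh.IsQCoh (Polar hI n) :=
  QCoh.isQCoh_cokernel QCoh.isQCoh_structureModule (isQCoh_poles hI n) _

theorem polarπ_eq_zero_iff (V : Z.Opens) (x : Γ((poles hI n).toModules, V)) :
    (polarπ hI n).app V x = 0 ↔ wf I ((poles hI n).ι.app V x) ∈ Set.range (res I V) := by
  refine (QCoh.mem_range_iff_cokernel (inclO hI n) V x).trans ⟨?_, ?_⟩
  · rintro ⟨a, rfl⟩
    exact ⟨a, (congrArg (fun φ : Coh.structureModule Z ⟶ W I => Scheme.Modules.Hom.app φ V a) (inclO_ι hI n)).symm⟩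
  · rintro ⟨a, ha⟩
    refine ⟨a, (poles hI n).ι_app_injective V ?_⟩
    exact ((congrArg (fun φ : Coh.structureModule Z ⟶ W I => Scheme.Modules.Hom.app φ V a) (inclO_ι hI n)).trans ha :)

/-- Polar parts on a chart. -/
theorem exists_chartEquiv {U : Z.Opens} {t : Γ(Z, U)} (h : IsChart I U t) :
    ∃ e : (Γ(Z, U) ⧸ Ideal.span {t ^ n}) ≃ₗ[Γ(Z, U)] Γ(Polar hI n, U),
      ∀ (x : Γ((poles hI n).toModules, U)) (a : Γ(Z, U)),
        res I U t ^ n * wf I ((poles hI n).ι.app U x) = res I U a →
          (polarπ hI n).app U x = e (Submodule.Quotient.mk a) := by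
  obtain ⟨g, hg⟩ := (poles hI n).exists_app_eq (invPow_mem hI n h)
  haveI : Epi (polarπ hI n) := inferInstanceAs (Epi (cokernel.π _))
  let L : Γ(Z, U) →ₗ[Γ(Z, U)] Γ(Polar hI n, U) :=
    LinearMap.toSpanSingleton Γ(Z, U) _ ((polarπ hI n).app U g)
  have key : ∀ (x : Γ((poles hI n).toModules, U)) (a : Γ(Z, U)),
      res I U t ^ n * wf I ((poles hI n).ι.app U x) = res I U a → (polarπ hI n).app U x = L a := by
    intro x a hxa
    have hx : x = a • g := (poles hI n).ι_app_injective U (by
      show (poles hI n).ι.app U x = (poles hI n).ι.app U (a • g)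
      rw [Scheme.Modules.Hom.app_smul, hg]
      refine (h.isUnit_res.pow n).mul_left_cancel (hxa.trans ?_)
      show res I U a = res I U t ^ n * wf I (a • invPow n h)
      rw [wf_smul, mul_left_comm, res_pow_mul_invPow, mul_one])
    rw [hx, Scheme.Modules.Hom.app_smul]
    rfl
  have hsurj : Function.Surjective L := fun y => by
    obtain ⟨x, rfl⟩ := QCoh.app_surjective_of_epi (isQCoh_poles hI n) (isQCoh_polar hI n) (polarπ hI n) h.affine y
    obtain ⟨a, -, ha⟩ := exists_smul_invPow hI n h ((poles hI n).ι_app_mem U x)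
    exact ⟨a, (key x a ha).symm⟩
  have hker : LinearMap.ker L = Ideal.span {t ^ n} := by
    ext a
    rw [LinearMap.mem_ker, Ideal.mem_span_singleton']
    show a • (polarπ hI n).app U g = 0 ↔ _
    rw [← Scheme.Modules.Hom.app_smul, polarπ_eq_zero_iff, Scheme.Modules.Hom.app_smul, hg, wf_smul]
    constructor
    · rintro ⟨c, hc⟩
      refine ⟨c, res_injective hI U ?_⟩
      rw [map_mul, map_pow, hc, mul_assoc, mul_comm (wf I (invPow n h)), res_pow_mul_invPow, mul_one]
    · rintro ⟨c, rfl⟩
      exact ⟨c, by rw [map_mul, map_pow, mul_assoc, res_pow_mul_invPow, mul_one]⟩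
  refine ⟨(Submodule.quotEquivOfEq _ _ hker.symm).trans (L.quotKerEquivOfSurjective hsurj), fun x a hxa => ?_⟩
  rw [key x a hxa]
  rfl

theorem isFP_polar : CohB1.IsFP (Polar hI n) := by
  choose U t h hx _ using fun x : Z => exists_chart hI ⊤ x trivial
  refine QCoh.isFP_of_finitePresentation (isQCoh_polar hI n) U
    (IsOpenCover.mk (eq_top_iff.2 fun x _ => Opens.mem_iSup.2 ⟨x, hx x⟩)) (fun x => (h x).affine) fun x => ?_
  obtain ⟨e, -⟩ := exists_chartEquiv hI n (h x)
  haveI : Module.FinitePresentation Γ(Z, U x) (Γ(Z, U x) ⧸ Ideal.span {t x ^ n}) :=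
    Module.finitePresentation_of_surjective (Submodule.mkQ _) (Submodule.mkQ_surjective _)
      (by rw [Submodule.ker_mkQ]; exact Submodule.fg_span_singleton _)
  exact Module.FinitePresentation.of_equiv e

end Groth.Agent.ExtCartier
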